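import Mathlib

/-!
# Abelian Sylow subgroups of perfect groups (helper703)
-/

set_option autoImplicit false

namespace Cfsg.Agent.H703.Burn

open scoped IsMulCommutative in
/-- In a finite perfect group, an element of an abelian Sylow `p`-subgroup `P`
centralized by `N(P)` is trivial. -/
theorem eq_one_of_normalizer_le {G : Type*} [Group G] [Finite G] (hG : commutator G = ⊤)
    {p : ℕ} [Fact p.Prime] (P : Sylow p G)
    (hcomm : IsMulCommutative P) (y : G) (hy : y ∈ (P : Subgroup G))
    (hN : ∀ n ∈ Subgroup.normalizer ((P : Subgroup G) : Set G), n * y = y * n) : y = 1 := by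
  have key : ∀ (k : ℕ) (g₀ : G), g₀⁻¹ * y ^ k * g₀ ∈ (P : Subgroup G) →
      g₀⁻¹ * y ^ k * g₀ = y ^ k := by
    intro k g₀ hk
    obtain ⟨n, hn, hn2⟩ := P.conj_eq_normalizer_conj_of_mem (y ^ k) g₀
      ((P : Subgroup G).pow_mem hy k) hk
    rw [hn2]
    have h1 : Commute n (y ^ k) := Commute.pow_right (hN n hn) k
    rw [mul_assoc, ← h1.eq]; group
  have h1 := MonoidHom.transfer_eq_pow (MonoidHom.id (P : Subgroup G)) y key
  have h2 : MonoidHom.transfer (MonoidHom.id (P : Subgroup G)) y = 1 := by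
    have h3 : y ∈ commutator G := by rw [hG]; exact Subgroup.mem_top y
    exact MonoidHom.mem_ker.1 (Abelianization.commutator_subset_ker _ h3)
  rw [h2] at h1
  have h3 : y ^ (P : Subgroup G).index = 1 := (congrArg Subtype.val h1).symm
  obtain ⟨k, hk⟩ := P.isPGroup' ⟨y, hy⟩
  have h4 : y ^ p ^ k = 1 := congrArg Subtype.val hk
  rw [← orderOf_eq_one_iff]
  apply Nat.eq_one_of_dvd_coprimes (a := p ^ k) (b := (P : Subgroup G).index)
  · apply Nat.Coprime.pow_left
    rw [(Fact.out : p.Prime).coprime_iff_not_dvd]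
    exact P.not_dvd_index
  · rwa [orderOf_dvd_iff_pow_eq_one]
  · rwa [orderOf_dvd_iff_pow_eq_one]

/-- An invariant linear character of an `N(P)`-invariant subgroup of `P` is trivial. -/
theorem char_eq_one {G : Type*} [Group G] [Finite G] (hG : commutator G = ⊤)
    {p : ℕ} [hp : Fact p.Prime] (P : Sylow p G)
    (hcomm : ∀ a ∈ (P : Subgroup G), ∀ b ∈ (P : Subgroup G), a * b = b * a)
    (D : Subgroup G) (hDP : D ≤ P)
    (hD : ∀ n ∈ Subgroup.normalizer ((P : Subgroup G) : Set G), ∀ d ∈ D, n * d * n⁻¹ ∈ D)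
    {M : Type*} [CommMonoid M] (l : D →* M)
    (hl : ∀ n (hn : n ∈ Subgroup.normalizer ((P : Subgroup G) : Set G)), ∀ d : D,
      l ⟨n * d * n⁻¹, hD n hn d d.2⟩ = l d) (a : D) : l a = 1 := by
  classical
  let _ : CommGroup D :=
    { (inferInstance : Group D) with
      mul_comm := fun a b => Subtype.ext (hcomm a (hDP a.2) b (hDP b.2)) }
  set N := Subgroup.normalizer ((P : Subgroup G) : Set G) with hN
  have hPN : (P : Subgroup G) ≤ N := Subgroup.le_normalizer
  let Q : Subgroup N := (P : Subgroup G).subgroupOf N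
  have hcard : Nat.card Q = Nat.card P := Nat.card_congr (Subgroup.subgroupOfEquivOfLe hPN).toEquiv
  have hidx : ¬ p ∣ Q.index := by
    intro h
    have h1 : Q.index ∣ (P : Subgroup G).index := Subgroup.relIndex_dvd_index_of_le hPN
    exact P.not_dvd_index (h.trans h1)
  have hcop : Nat.Coprime (Nat.card Q) Q.index := by
    rw [hcard, P.card_eq_multiplicity]
    exact Nat.Coprime.pow_left _ ((hp.out.coprime_iff_not_dvd).2 hidx)
  obtain ⟨H, hH⟩ := Subgroup.exists_right_complement'_of_coprime hcop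
  have : Fintype H := Fintype.ofFinite _
  let c : N → D →* D := fun n =>
    { toFun := fun d => ⟨n * d * (n : G)⁻¹, hD n n.2 d d.2⟩
      map_one' := Subtype.ext (by show (n : G) * ((1 : D) : G) * (n : G)⁻¹ = 1; simp)
      map_mul' := fun x y => Subtype.ext (by
        show (n : G) * ((x : G) * y) * (n : G)⁻¹ = ((n : G) * x * (n : G)⁻¹) * ((n : G) * y * (n : G)⁻¹)
        group) }
  have hcm : ∀ n m : N, ∀ d, c (n * m) d = c n (c m d) := fun n m d => Subtype.ext (by
    show ((n * m : N) : G) * d * (((n * m : N) : G))⁻¹ = (n : G) * ((m : G) * d * (m : G)⁻¹) * (n : G)⁻¹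
    push_cast
    group)
  let z : D := ∏ h : H, c h a
  have hz1 : ∀ n : N, c n z = z := by
    intro n
    obtain ⟨⟨u, h⟩, huh⟩ := hH.2 n
    have h1 : c (h : N) z = z := by
      simp only [z]
      rw [map_prod]
      simp_rw [← hcm]
      exact Fintype.prod_equiv (Equiv.mulLeft h) _ _ fun k => rfl
    have h2 : ∀ d, c (u : N) d = d := fun d => Subtype.ext (by
      show ((u : N) : G) * d * (((u : N) : G))⁻¹ = d
      rw [hcomm _ (Subgroup.mem_subgroupOf.1 u.2) _ (hDP d.2), mul_inv_cancel_right])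
    rw [← huh]
    show c ((u : N) * (h : N)) z = z
    rw [hcm, h1, h2]
  have hz2 : (z : G) = 1 := by
    refine eq_one_of_normalizer_le hG P ⟨⟨fun a b => Subtype.ext (hcomm a a.2 b b.2)⟩⟩ z (hDP z.2)
      fun n hn => ?_
    have := congrArg Subtype.val (hz1 ⟨n, hn⟩)
    have h2 : n * z * n⁻¹ = z := this
    exact mul_inv_eq_iff_eq_mul.1 h2
  have hz3 : l z = 1 := by
    rw [show z = 1 from Subtype.ext hz2, map_one]
  have hz4 : l z = l a ^ Fintype.card H := by
    simp only [z]
    rw [map_prod]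
    have hlc : ∀ h : H, l (c h a) = l a := fun h => hl _ (h : N).2 a
    simp_rw [hlc]
    rw [Finset.prod_const, Finset.card_univ]
  have hz5 : ∃ k : ℕ, l a ^ p ^ k = 1 := by
    obtain ⟨k, hk⟩ := P.isPGroup' ⟨a, hDP a.2⟩
    refine ⟨k, ?_⟩
    have h5 : ((a : G)) ^ p ^ k = 1 := congrArg Subtype.val hk
    have h4 : a ^ p ^ k = 1 := Subtype.ext h5
    rw [← map_pow, h4, map_one]
  obtain ⟨k, hk⟩ := hz5
  rw [hz4] at hz3
  have hHp : Nat.Coprime (p ^ k) (Fintype.card H) := by
    apply Nat.Coprime.pow_left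
    rw [hp.out.coprime_iff_not_dvd, ← Nat.card_eq_fintype_card, ← hH.symm.index_eq_card]
    exact hidx
  rw [← orderOf_eq_one_iff]
  exact Nat.eq_one_of_dvd_coprimes hHp (orderOf_dvd_of_pow_eq_one hk) (orderOf_dvd_of_pow_eq_one hz3)

end Cfsg.Agent.H703.Burn
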